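import Cfsg.Agent.H705.TwoB.Split
import Cfsg.Agent.H705.OreB.Small
import Cfsg.Agent.H860.I4.SFive
import Cfsg.Agent.H671.J4.SFive
import Cfsg.Agent.H676.Deg.Val
import Cfsg.Agent.H954.DR.CentB
import Cfsg.Agent.BM.KHAll

/-!
# The degrees of the Baby Monster modulo 11 (helper705, row 2.B of S2491)

* `struct11` : `|C(y)| = 1320` and `C(y)` contains `S₅`, for `y` of order 11;
* `res11` : `χ(1) ≡ 0, ± 1, ± 4, ± 5, ± 6` modulo 11.
-/

set_option autoImplicit false
set_option maxRecDepth 100000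

namespace Cfsg.Agent.H705.TwoB.Eleven

open Cfsg Cfsg.Agent Cfsg.Agent.MonsterX Cfsg.Agent.MonsterX.InstData Cfsg.Agent.MonsterX.MainPack Cfsg.Agent.MonsterU
open Cfsg.Agent.MonsterP Cfsg.Agent.MonsterN
open Cfsg.Agent.LThreeB (XT mem_XT centXT centXT')
open Subgroup (centralizer mem_centralizer_singleton_iff center card_dvd_of_le zpowers normalizer)
open Cfsg.Agent.H979.BAdj Cfsg.Agent.H979.CovLift Cfsg.Agent.H979.OddB
open Cfsg.Agent.H940.Eng (Base)
open Equiv (Perm)

universe u

/-- **`C(y) = 11 × S₅`.** -/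
theorem struct11 (B : Base) {L : Type u} [Group L] [Finite L] (h : Spor.IsoB L) {y : L} (hy : orderOf y = 11) :
    Nat.card ↥(centralizer ({y} : Set L)) = 1320 ∧
      ∃ f : Perm (Fin 5) →* L, Function.Injective f ∧ ∀ σ, f σ * y = y * f σ := by
  have hfin : Finite H630.Baby.Mon := MThirteen.Row.finite
  obtain ⟨t, ht, h2, ⟨e⟩⟩ := exists_cover h
  obtain ⟨a, ha, ha'⟩ := exists_lift h2 (by norm_num : Nat.Prime 11) (by norm_num) (x := e.symm y)
    (by rw [MulEquiv.orderOf_eq, hy])
  have haM : orderOf (a : ↥InstData.M.G) = 11 := by rw [Subgroup.orderOf_coe, ha]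
  have hat : (a : ↥InstData.M.G) * t = t * a := mem_centralizer_singleton_iff.1 a.2
  have hto := MThirteen.Row.ta_order ht
  have htt : t * t = 1 := by rw [← pow_two, ← hto, pow_orderOf_eq_one]
  have ht1 : t ≠ 1 := by
    rintro rfl
    rw [orderOf_one] at hto
    norm_num at hto
  have hxm : (a : ↥InstData.M.G) ∈ centralizer ({(a : ↥InstData.M.G)} : Set ↥InstData.M.G) :=
    mem_centralizer_singleton_iff.2 rfl
  have hxc : ∀ c : ↥(centralizer ({(a : ↥InstData.M.G)} : Set ↥InstData.M.G)),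
      c * ⟨a, hxm⟩ = ⟨a, hxm⟩ * c := fun c => Subtype.ext (mem_centralizer_singleton_iff.1 c.2)
  have hxn : (zpowers (⟨a, hxm⟩ : ↥(centralizer ({(a : ↥InstData.M.G)} : Set ↥InstData.M.G)))).Normal := by
    refine ⟨fun n hn c => ?_⟩
    obtain ⟨k, rfl⟩ := Subgroup.mem_zpowers_iff.1 hn
    have h4 : Commute c (⟨a, hxm⟩ : ↥(centralizer ({(a : ↥InstData.M.G)} : Set ↥InstData.M.G))) := hxc c
    rw [(h4.zpow_right k).eq, mul_inv_cancel_right]
    exact hn
  obtain ⟨hc, hsim⟩ := H746.MEleven.card_cent_good B.table (fun X _ _ hX => B.known X hX) haM hto hat hxm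
  have hsm : t ∈ centralizer ({(a : ↥InstData.M.G)} : Set ↥InstData.M.G) := mem_centralizer_singleton_iff.2 hat.symm
  have hcc : Nat.card ↥(XT (a : ↥InstData.M.G) t) = Nat.card ↥(centralizer ({y} : Set L)) * 2 := by
    have h3 := H979.CovLift.card_cent h2 e (by norm_num : Nat.Prime 11) (by norm_num) ha
    rw [ha', e.apply_symm_apply] at h3
    rw [← h3]
    exact Nat.card_congr (centXT a).toEquiv
  have hcs : Nat.card ↥(centralizer ({(⟨t, hsm⟩ : ↥(centralizer ({(a : ↥InstData.M.G)} : Set ↥InstData.M.G)))} :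
      Set ↥(centralizer ({(a : ↥InstData.M.G)} : Set ↥InstData.M.G)))) = Nat.card ↥(centralizer ({y} : Set L)) * 2 := by
    rw [← hcc]
    exact Nat.card_congr (centXT' (⟨t, hsm⟩ : ↥(centralizer ({(a : ↥InstData.M.G)} : Set ↥InstData.M.G)))).toEquiv
  have hL : Nat.card L = 4154781481226426191177580544000000 := by
    obtain ⟨f⟩ := h
    rw [Nat.card_congr f.toEquiv, Cfsg.Agent.BM.KHAll.card_B]
  have h112 : ¬ 11 ^ 2 ∣ Nat.card L := by rw [hL]; norm_num
  rcases Split.split (x := (⟨a, hxm⟩ : ↥(centralizer ({(a : ↥InstData.M.G)} : Set ↥InstData.M.G))))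
    (by rw [← Subgroup.orderOf_coe]; exact haM) hxc hc hsim (s := ⟨t, hsm⟩) (Subtype.ext htt)
    (fun h => ht1 (congrArg Subtype.val h)) with h192 | ⟨h240, f, hf, hf1, hf2⟩
  · exfalso
    rw [hcs] at h192
    have h5 : Nat.card ↥(centralizer ({y} : Set L)) = 1056 := by omega
    obtain ⟨f, hf, -, h3⟩ := Cfsg.Agent.H954.DR.CentB.arith (by norm_num : Nat.Prime 11) h112 hy
    rw [h5, hL] at h3
    have h6 : f ∣ 10 := hf
    have h7 : f ≤ 10 := Nat.le_of_dvd (by norm_num) h6
    interval_cases f <;> revert h3 h6 <;> norm_num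
  · rw [hcs] at h240
    refine ⟨by omega, ?_⟩
    let F : Perm (Fin 5) →* ↥(centralizer ({t} : Set ↥InstData.M.G)) :=
      { toFun := fun σ => ⟨((f σ : ↥(centralizer ({(a : ↥InstData.M.G)} : Set ↥InstData.M.G))) : ↥InstData.M.G),
          mem_centralizer_singleton_iff.2 (congrArg Subtype.val (hf1 σ))⟩
        map_one' := Subtype.ext (by
          have h9 : ((f 1 : ↥(centralizer ({(a : ↥InstData.M.G)} : Set ↥InstData.M.G))) : ↥InstData.M.G) = 1 := by
            rw [map_one]; rfl
          exact h9)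
        map_mul' := fun σ τ => Subtype.ext (by
          have h9 : ((f (σ * τ) : ↥(centralizer ({(a : ↥InstData.M.G)} : Set ↥InstData.M.G))) : ↥InstData.M.G) =
              (f σ : ↥(centralizer ({(a : ↥InstData.M.G)} : Set ↥InstData.M.G))) *
              ((f τ : ↥(centralizer ({(a : ↥InstData.M.G)} : Set ↥InstData.M.G))) : ↥InstData.M.G) := by
            rw [map_mul]; rfl
          exact h9) }
    have htZ : (⟨t, mem_centralizer_singleton_iff.2 rfl⟩ : ↥(centralizer ({t} : Set ↥InstData.M.G))) ∈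
        center ↥(centralizer ({t} : Set ↥InstData.M.G)) := by
      rw [Subgroup.mem_center_iff]
      intro g
      exact Subtype.ext (mem_centralizer_singleton_iff.1 g.2)
    have hZ : ∀ z ∈ center ↥(centralizer ({t} : Set ↥InstData.M.G)), z = 1 ∨ (z : ↥InstData.M.G) = t := by
      intro z hz
      by_contra hcon
      push Not at hcon
      let g : Fin 3 → center ↥(centralizer ({t} : Set ↥InstData.M.G)) := ![1, ⟨_, htZ⟩, ⟨z, hz⟩]
      have hne1 : (1 : center ↥(centralizer ({t} : Set ↥InstData.M.G))) ≠ ⟨_, htZ⟩ := fun h => ht1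
        (congrArg (fun w : center ↥(centralizer ({t} : Set ↥InstData.M.G)) =>
          ((w : ↥(centralizer ({t} : Set ↥InstData.M.G))) : ↥InstData.M.G)) h).symm
      have hne2 : (1 : center ↥(centralizer ({t} : Set ↥InstData.M.G))) ≠ ⟨z, hz⟩ := fun h => hcon.1
        (congrArg Subtype.val h).symm
      have hne3 : (⟨_, htZ⟩ : center ↥(centralizer ({t} : Set ↥InstData.M.G))) ≠ ⟨z, hz⟩ := fun h => hcon.2
        (congrArg (fun w : center ↥(centralizer ({t} : Set ↥InstData.M.G)) =>
          ((w : ↥(centralizer ({t} : Set ↥InstData.M.G))) : ↥InstData.M.G)) h).symm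
      have hg : Function.Injective g := by
        intro i j hij
        fin_cases i <;> fin_cases j
        · rfl
        · exact absurd hij hne1
        · exact absurd hij hne2
        · exact absurd hij.symm hne1
        · rfl
        · exact absurd hij hne3
        · exact absurd hij.symm hne2
        · exact absurd hij.symm hne3
        · rfl
      have h3 := Nat.card_le_card_of_injective g hg
      rw [h2, Nat.card_eq_fintype_card, Fintype.card_fin] at h3
      omega
    let Φ : Perm (Fin 5) →* L := (e.toMonoidHom.comp (QuotientGroup.mk' (center ↥(centralizer ({t} : Set ↥InstData.M.G))))).comp F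
    refine ⟨Φ, ?_, ?_⟩
    · rw [injective_iff_map_eq_one]
      intro σ hσ
      have h3 : (QuotientGroup.mk (F σ) : ↥(centralizer ({t} : Set ↥InstData.M.G)) ⧸ center ↥(centralizer ({t} : Set ↥InstData.M.G))) = 1 :=
        e.injective (by rw [map_one]; exact hσ)
      rcases hZ _ ((QuotientGroup.eq_one_iff _).1 h3) with h4 | h4
      · apply hf
        rw [map_one]
        apply Subtype.ext
        have h5 : ((F σ : ↥(centralizer ({t} : Set ↥InstData.M.G))) : ↥InstData.M.G) = 1 := congrArg Subtype.val h4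
        exact h5
      · exact absurd (Subtype.ext h4 : f σ = ⟨t, hsm⟩) (hf2 σ)
    · intro σ
      have h3 : F σ * a = a * F σ := Subtype.ext (mem_centralizer_singleton_iff.1 (f σ).2)
      have h4 : e (QuotientGroup.mk a) = y := by rw [ha', e.apply_symm_apply]
      show e (QuotientGroup.mk (F σ)) * y = y * e (QuotientGroup.mk (F σ))
      rw [← h4, ← map_mul, ← map_mul, ← QuotientGroup.mk_mul, ← QuotientGroup.mk_mul, h3]

open Cfsg.Agent.Characters.Core Cfsg.Agent.SmallSimple.ThetaSetup Cfsg.Agent.H34.TI Cfsg.Agent.H671.J4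

/-- the degrees of the irreducible characters of `S₅` -/
theorem deg5 {φ : Perm (Fin 5) → ℂ} (hφ : IsIrrCharacter (Perm (Fin 5)) φ) :
    ∃ n : ℤ, (n = 1 ∨ n = 4 ∨ n = 5 ∨ n = 6) ∧ φ 1 = n := by
  obtain ⟨a, ha⟩ := irr5_bij.2 ⟨φ, hφ⟩
  refine ⟨t7 a, ?_, ?_⟩
  · clear ha
    revert a
    decide
  · have h1 : (irr5 a : Perm (Fin 5) → ℂ) 1 = φ 1 := congrArg (fun ψ : IrrCharacter (Perm (Fin 5)) => (ψ : Perm (Fin 5) → ℂ) 1) ha
    rw [← h1]
    show ((th5 a 1 : ℤ) : ℂ) = _
    rw [th5_one]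

/-- **The values at an element of order 11**, for a group of the order of the Baby Monster. -/
theorem res_of_card {L : Type u} [Group L] [Finite L] (hL : Nat.card L = 4154781481226426191177580544000000) {x : L}
    (hx : orderOf x = 11) (hc : Nat.card ↥(centralizer ({x} : Set L)) = 1320) (f : Perm (Fin 5) →* L)
    (hf : Function.Injective f) (hfx : ∀ σ, f σ * x = x * f σ) (χ : IrrCharacter L) :
    (∃ k : ℕ, (χ : L → ℂ) 1 = (11 : ℕ) * k) ∨ ∃ n δ k : ℤ, (n = 1 ∨ n = 4 ∨ n = 5 ∨ n = 6) ∧ (δ = 1 ∨ δ = -1) ∧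
      (χ : L → ℂ) x = δ * n ∧ (χ : L → ℂ) 1 = δ * n + (11 : ℕ) * k := by
  classical
  have hp : Fact (Nat.Prime 11) := ⟨by norm_num⟩
  have h11 : ¬ 11 ^ 2 ∣ Nat.card L := by rw [hL]; norm_num
  have hCx : centralizer ({x} : Set L) = centralizer (zpowers x : Set L) := by
    rw [Subgroup.zpowers_eq_closure, Subgroup.centralizer_closure]
  set K : Subgroup L := f.range with hKdef
  let e : K ≃* Perm (Fin 5) := (MonoidHom.ofInjective hf).symm
  have hK120 : Nat.card K = 120 := by
    rw [Nat.card_congr e.toEquiv, Nat.card_perm, Nat.card_fin]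
    rfl
  have hKc : K ≤ centralizer ({x} : Set L) := by
    rintro _ ⟨σ, rfl⟩
    exact mem_centralizer_singleton_iff.2 (hfx σ)
  -- the Sylow subgroup
  have hidx : ¬ 11 ∣ (zpowers x).index := by
    intro h
    apply h11
    rw [← (zpowers x).card_mul_index, Nat.card_zpowers, hx, pow_two]
    exact Nat.mul_dvd_mul_left 11 h
  have hpg : IsPGroup 11 (zpowers x) := IsPGroup.of_card (n := 1) (by rw [Nat.card_zpowers, hx, pow_one])
  let P : Sylow 11 L := hpg.toSylow hidx
  have hPx : (P : Subgroup L) = zpowers x := rfl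
  have hP : Nat.card P = 11 := by
    show Nat.card (zpowers x) = 11
    rw [Nat.card_zpowers, hx]
  -- `C(P) = P × K`
  have hKP : K ≤ centralizer ((P : Subgroup L) : Set L) := by rw [hPx, ← hCx]; exact hKc
  have hdisj : Disjoint (zpowers x) K := by
    apply Subgroup.disjoint_of_coprime_natCard
    rw [Nat.card_zpowers, hx, hK120]
    norm_num
  have hcov : ∀ g ∈ centralizer ((P : Subgroup L) : Set L), ∃ y ∈ (P : Subgroup L), ∃ k ∈ K, g = y * k := by
    have hmem : ∀ y : zpowers x × K, (y.1 : L) * y.2 ∈ centralizer ({x} : Set L) := fun y =>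
      mul_mem (by
        obtain ⟨j, hj⟩ := Subgroup.mem_zpowers_iff.1 y.1.2
        rw [mem_centralizer_singleton_iff, ← hj]
        exact (Commute.zpow_left (Commute.refl x) j).eq) (hKc y.2.2)
    let g : zpowers x × K → centralizer ({x} : Set L) := fun y => ⟨(y.1 : L) * y.2, hmem y⟩
    have hg : Function.Injective g := fun y y' h =>
      Subgroup.mul_injective_of_disjoint hdisj (congrArg Subtype.val h)
    have hcardf : Nat.card (zpowers x × K) = Nat.card (centralizer ({x} : Set L)) := by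
      rw [Nat.card_prod, Nat.card_zpowers, hx, hK120, hc]
    have hfb : Function.Bijective g := (Nat.bijective_iff_injective_and_card g).2 ⟨hg, hcardf⟩
    intro c hc
    rw [hPx, ← hCx] at hc
    obtain ⟨y, hy⟩ := hfb.2 ⟨c, hc⟩
    exact ⟨y.1, y.1.2, y.2, y.2.2, (congrArg Subtype.val hy).symm⟩
  have hcomp : IsComp 11 (P : Subgroup L) K := Cfsg.Agent.H676.Deg.isComp_of hP hKP (by rw [hK120]; norm_num) hcov
  -- the inertial index
  have he : (centralizer ((P : Subgroup L) : Set L)).relIndex (normalizer ((P : Subgroup L) : Set L)) = 11 - 1 := by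
    obtain ⟨f, hf, h1, h2⟩ := Cfsg.Agent.H954.DR.CentB.arith hp.out h11 hx
    have h3 := Subgroup.relIndex_mul_relIndex ⊥ (centralizer (zpowers x : Set L)) (normalizer (zpowers x : Set L)) bot_le
      (Subgroup.centralizer_le_normalizer _)
    rw [Subgroup.relIndex_bot_left, Subgroup.relIndex_bot_left, ← hCx, ← h1] at h3
    have h4 := Nat.eq_of_mul_eq_mul_left Nat.card_pos h3
    rw [hPx, ← hCx, h4]
    rw [hc, hL] at h2
    have h5 : f ∣ 10 := hf
    have h6 : f ≤ 10 := Nat.le_of_dvd (by norm_num) h5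
    interval_cases f <;> first | rfl | (exfalso; revert h2; norm_num) | (exfalso; revert h5; norm_num)
  -- the normalizer acts by inner automorphisms
  have hI : Cfsg.Agent.H676.Deg.Inn P K := by
    intro n hn
    have hnK : ∀ k, k ∈ K ↔ n * k * n⁻¹ ∈ K := by
      intro k
      rw [hcomp, hcomp]
      have h1 : orderOf (n * k * n⁻¹) = orderOf k := (MulAut.conj n).orderOf_eq k
      have h2 : ∀ y : L, y ∈ (P : Subgroup L) ↔ n * y * n⁻¹ ∈ (P : Subgroup L) := Subgroup.mem_normalizer_iff.1 hn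
      rw [h1]
      refine and_congr_left fun _ => ?_
      rw [Subgroup.mem_centralizer_iff, Subgroup.mem_centralizer_iff]
      constructor
      · intro h y hy
        have h3 : n⁻¹ * y * n ∈ (P : Subgroup L) := (h2 _).2 (by
          have h4 : n * (n⁻¹ * y * n) * n⁻¹ = y := by group
          rw [h4]; exact hy)
        have h4 := h _ h3
        calc y * (n * k * n⁻¹) = n * ((n⁻¹ * y * n) * k) * n⁻¹ := by group
          _ = n * (k * (n⁻¹ * y * n)) * n⁻¹ := by rw [h4]
          _ = n * k * n⁻¹ * y := by group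
      · intro h y hy
        have h3 := h _ ((h2 y).1 hy)
        calc y * k = n⁻¹ * ((n * y * n⁻¹) * (n * k * n⁻¹)) * n := by group
          _ = n⁻¹ * ((n * k * n⁻¹) * (n * y * n⁻¹)) * n := by rw [h3]
          _ = k * y := by group
    let θ : K ≃* K :=
      { toFun := fun k => ⟨n * k * n⁻¹, (hnK k).1 k.2⟩
        invFun := fun k => ⟨n⁻¹ * k * n, (hnK _).2 (by
          have h1 : n * (n⁻¹ * (k : L) * n) * n⁻¹ = k := by group
          rw [h1]; exact k.2)⟩
        left_inv := fun k => Subtype.ext (by simp [mul_assoc])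
        right_inv := fun k => Subtype.ext (by simp [mul_assoc])
        map_mul' := fun k l => Subtype.ext (by simp [mul_assoc]) }
    obtain ⟨σ, hσ⟩ := Cfsg.Agent.H860.I4.SFive.inner ((e.symm.trans θ).trans e)
    refine ⟨e.symm σ, (e.symm σ).2, fun k hk => ?_⟩
    have h1 := hσ (e ⟨k, hk⟩)
    have h2 : ((e.symm.trans θ).trans e) (e ⟨k, hk⟩) = e (θ ⟨k, hk⟩) := by
      show e (θ (e.symm (e ⟨k, hk⟩))) = _
      rw [e.symm_apply_apply]
    rw [h2] at h1
    have h3 : θ ⟨k, hk⟩ = e.symm σ * ⟨k, hk⟩ * (e.symm σ)⁻¹ := by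
      apply e.injective
      rw [h1, map_mul, map_mul, map_inv, e.apply_symm_apply]
    exact congrArg Subtype.val h3
  have hxP : x ∈ (P : Subgroup L) := Subgroup.mem_zpowers x
  have hx1 : x ≠ 1 := by
    rintro rfl
    rw [orderOf_one] at hx
    norm_num at hx
  rcases Cfsg.Agent.H676.Deg.val hcomp hP he hI χ with ⟨-, h1⟩ | ⟨φ, δ, hδ, h1, k, hk⟩
  · left
    obtain ⟨k, hk⟩ := h1
    exact ⟨k, by exact_mod_cast hk⟩
  · right
    have h2 : (χ : L → ℂ) x = δ * (φ : K → ℂ) 1 := by
      have := h1 ⟨x, hxP⟩ (fun h => hx1 (congrArg Subtype.val h)) 1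
      rwa [Subgroup.coe_one, mul_one] at this
    obtain ⟨n, hn, hn1⟩ := deg5 (isIrr_comp e.symm.toMonoidHom e.symm.surjective φ.2)
    have e1 : ((φ : K → ℂ) ∘ e.symm.toMonoidHom) 1 = (φ : K → ℂ) 1 := by
      rw [Function.comp_apply, map_one]
    rw [e1] at hn1
    refine ⟨n, δ, k, hn, hδ, by rw [h2, hn1], ?_⟩
    rw [hk, hn1]

/-- **The degrees of the Baby Monster modulo 11.** -/
theorem res11 (B : Base) {L : Type u} [Group L] [Finite L] (h : Spor.IsoB L) (χ : IrrCharacter L) :
    charDegree (χ : L → ℂ) % 11 ∈ [0, 1, 10, 4, 7, 5, 6] := by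
  have hL : Nat.card L = 4154781481226426191177580544000000 := by
    obtain ⟨f⟩ := h
    rw [Nat.card_congr f.toEquiv, Cfsg.Agent.BM.KHAll.card_B]
  have hp : Fact (Nat.Prime 11) := ⟨by norm_num⟩
  obtain ⟨y, hy⟩ := exists_prime_orderOf_dvd_card' (G := L) 11 (by rw [hL]; norm_num)
  obtain ⟨hc, f, hf, hfy⟩ := struct11 B h hy
  have hd := Blocks.Knorr.charDegree_eq χ.2
  rcases res_of_card hL hy hc f hf hfy χ with ⟨k, hk⟩ | ⟨n, δ, k, hn, hδ, -, hk⟩
  · rw [hd] at hk
    have h1 : charDegree (χ : L → ℂ) = 11 * k := by exact_mod_cast hk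
    rw [h1, Nat.mul_mod_right]
    decide
  · rw [hd] at hk
    have h1 : (charDegree (χ : L → ℂ) : ℤ) = δ * n + 11 * k := by exact_mod_cast hk
    have h2 : charDegree (χ : L → ℂ) % 11 = 1 ∨ charDegree (χ : L → ℂ) % 11 = 10 ∨ charDegree (χ : L → ℂ) % 11 = 4 ∨
        charDegree (χ : L → ℂ) % 11 = 7 ∨ charDegree (χ : L → ℂ) % 11 = 5 ∨ charDegree (χ : L → ℂ) % 11 = 6 := by
      rcases hδ with rfl | rfl <;> rcases hn with rfl | rfl | rfl | rfl <;> omega
    rcases h2 with h2 | h2 | h2 | h2 | h2 | h2 <;> rw [h2] <;> decide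

end Cfsg.Agent.H705.TwoB.Eleven
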