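import Cfsg.Agent.H903.Ore.BabyS3c
import Cfsg.Agent.BpSpor.MBigCo

/-!
# Row 2.B of S2491: pairs `w ∈ 2B`, `t ∈ 2A`, `w t ∈ 2A` in the Monster (helper705)

`conj_pair` : a pair is conjugate to `(z, u)`, `u ∈ Q` of type 2.
-/

set_option autoImplicit false
set_option maxRecDepth 100000

namespace Cfsg.Agent.H705.TwoB.Pair

open Cfsg Cfsg.Agent.MonsterX Cfsg.Agent.MonsterX.InstData Cfsg.Agent.MonsterX.MainPack Cfsg.Agent.MonsterU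
open Cfsg.Agent.MonsterP Cfsg.Agent.MonsterN
open Cfsg.Agent.MonsterX.KSide Cfsg.Agent.MonsterX.KLift Cfsg.Agent.MonsterN.LitInst
open Cfsg.Agent.LThreeB.Row (TA)
open Cfsg.Agent.H903.Ore.BabyS3c
open Cfsg.Agent.MonsterU.Lam2 (IsType)
open Subgroup (mem_centralizer_singleton_iff)

/-- **Pairs `w ∈ 2B`, `t ∈ 2A`, `w t ∈ 2A`.** -/
theorem conj_pair' {w t : Mn} (hw : IsConj KDone.K.z w) (ht : TA t) (hc : w * t = t * w) (hwt : TA (w * t)) {u : Mn}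
    (hu : u ∈ KDone.K.ι.range) (h2 : IsType 2 (Cfsg.Agent.LThreeMB.KChart.eta KDone.lft u)) :
    ∃ k : Mn, k * w * k⁻¹ = KDone.K.z ∧ k * t * k⁻¹ = u := by
  obtain ⟨s, rfl⟩ := hu
  rw [Cfsg.Agent.LThreeMB.KChart.eta_ι] at h2
  have hs : s ∈ KDone.K.Sh := (TwoCls.mem_Sh_iff KDone.lft s).2 h2
  obtain ⟨g, hg⟩ := isConj_iff.1 (IsConj.trans (IsConj.symm ht) (ta_iota hs))
  have hc' : (g * w * g⁻¹) * KDone.K.ι s = KDone.K.ι s * (g * w * g⁻¹) := by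
    rw [← hg]
    calc g * w * g⁻¹ * (g * t * g⁻¹) = g * (w * t) * g⁻¹ := by group
      _ = g * (t * w) * g⁻¹ := by rw [hc]
      _ = _ := by group
  have hw' : IsConj KDone.K.z (g * w * g⁻¹) := IsConj.trans hw (isConj_iff.2 ⟨g, rfl⟩)
  have hwt' : TA ((g * w * g⁻¹) * KDone.K.ι s) := by
    have e : (g * w * g⁻¹) * KDone.K.ι s = g * (w * t) * g⁻¹ := by rw [← hg]; group
    rw [e]
    exact IsConj.trans hwt (isConj_iff.2 ⟨g, rfl⟩)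
  obtain ⟨k, hk⟩ := conj_z hs (w := ⟨g * w * g⁻¹, mem_centralizer_singleton_iff.2 hc'⟩) hw' hwt'
  have hk' : g * w * g⁻¹ = (k : Mn) * KDone.K.z * (k : Mn)⁻¹ := hk
  have hks : (k : Mn) * KDone.K.ι s = KDone.K.ι s * (k : Mn) := mem_centralizer_singleton_iff.1 k.2
  refine ⟨(k : Mn)⁻¹ * g, ?_, ?_⟩
  · calc (k : Mn)⁻¹ * g * w * ((k : Mn)⁻¹ * g)⁻¹ = (k : Mn)⁻¹ * (g * w * g⁻¹) * k := by group
      _ = (k : Mn)⁻¹ * ((k : Mn) * KDone.K.z * (k : Mn)⁻¹) * k := by rw [hk']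
      _ = KDone.K.z := by group
  · calc (k : Mn)⁻¹ * g * t * ((k : Mn)⁻¹ * g)⁻¹ = (k : Mn)⁻¹ * (g * t * g⁻¹) * k := by group
      _ = (k : Mn)⁻¹ * (KDone.K.ι s * k) := by rw [hg]; group
      _ = (k : Mn)⁻¹ * (k * KDone.K.ι s) := by rw [hks]
      _ = KDone.K.ι s := by group

/-- **Pairs `w ∈ 2B`, `t ∈ 2A`, `w t ∈ 2A`**, in the words of the chart of `MBigModel`. -/
theorem conj_pair {w t : Cfsg.Agent.BpSpor.MBigModel.MG} (hw : IsConj KDone.K.z w) (ht : TA t) (hc : w * t = t * w)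
    (hwt : TA (w * t)) {u : Cfsg.Agent.BpSpor.MBigModel.MG} (hu : u ∈ KDone.K.ι.range)
    (h2 : IsType 2 (Cfsg.Agent.LThreeMB.KChart.eta KDone.lft u)) :
    ∃ k : Cfsg.Agent.BpSpor.MBigModel.MG, k * w * k⁻¹ = Cfsg.Agent.BpSpor.MBigModel.zz ∧ k * t * k⁻¹ = u :=
  conj_pair' hw ht hc hwt hu h2

end Cfsg.Agent.H705.TwoB.Pair
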