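import Cfsg.Agent.CoThreeStd.MTwelveCent
import Cfsg.Agent.MTwelveType.IsoEnd

/-!
# Involutions of a group `11 × M₁₂` (helper705, row 2.B of S2491)

`split` : `x` central of order 11, `|C| = 11 · 95040`, `C / ⟨x⟩` simple, `s` an involution: `|C(s)| = 11 · 192`, or
`|C(s)| = 11 · 240` and `S₅` embeds into `C(s)` without `s`.
-/

set_option autoImplicit false

namespace Cfsg.Agent.H705.TwoB.Split

open Subgroup Cfsg Equiv

universe u

/-- **Involutions of `M₁₂`.** -/
theorem twelve {Q : Type u} [Group Q] [Finite Q] [IsSimpleGroup Q] (hQ : Nat.card Q = 95040) {s : Q} (hs : s * s = 1)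
    (hs1 : s ≠ 1) : Nat.card (centralizer ({s} : Set Q)) = 192 ∨
      (Nat.card (centralizer ({s} : Set Q)) = 240 ∧ ∃ f : Perm (Fin 5) →* Q, Function.Injective f ∧
        (∀ σ, f σ * s = s * f σ) ∧ ∀ σ, f σ ≠ s) := by
  obtain ⟨e⟩ := Cfsg.Agent.MTwelveType.IsoEnd.isoM12_of_card hQ
  have hcard : ∀ (m : Spor.M12) (v : Spor.M12), m⁻¹ * v * m = e s →
      Nat.card (centralizer ({s} : Set Q)) = Nat.card (centralizer ({v} : Set Spor.M12)) := by
    intro m v hm
    let f : Q ≃* Spor.M12 := e.trans (MulAut.conj m)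
    have hf : f s = v := by
      show m * e s * m⁻¹ = v
      rw [← hm]; group
    refine Nat.card_congr (f.toEquiv.subtypeEquiv fun g => ?_)
    show g ∈ centralizer ({s} : Set Q) ↔ f g ∈ centralizer ({v} : Set Spor.M12)
    rw [mem_centralizer_singleton_iff, mem_centralizer_singleton_iff, ← hf, ← map_mul, ← map_mul, f.injective.eq_iff]
  rcases Cfsg.Agent.CoThreeStd.MTwelve.inv_class (e s) (fun h => hs1 (e.injective (by rw [h, map_one])))
    (by rw [← map_mul, hs, map_one]) with ⟨m, hm⟩ | ⟨m, hm⟩
  · right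
    refine ⟨(hcard m _ hm).trans Cfsg.Agent.CoThreeStd.MTwelve.card_cent_y, ?_⟩
    let f : Q ≃* Spor.M12 := e.trans (MulAut.conj m)
    have hf : f s = Cfsg.Agent.CoThreeStd.MTwelve.y := by
      show m * e s * m⁻¹ = _
      rw [← hm]; group
    refine ⟨f.symm.toMonoidHom.comp Cfsg.Agent.CoThreeStd.MTwelve.w, ?_, ?_, ?_⟩
    · exact f.symm.injective.comp Cfsg.Agent.CoThreeStd.MTwelve.w_injective
    · intro σ
      apply f.injective
      rw [map_mul, map_mul, hf]
      show f (f.symm (Cfsg.Agent.CoThreeStd.MTwelve.w σ)) * _ = _ * f (f.symm (Cfsg.Agent.CoThreeStd.MTwelve.w σ))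
      rw [f.apply_symm_apply]
      exact (Cfsg.Agent.CoThreeStd.MTwelve.y_comm σ).symm
    · intro σ h
      apply Cfsg.Agent.CoThreeStd.MTwelve.y_ne_w σ
      rw [← hf, ← h]
      exact f.apply_symm_apply _
  · left
    exact (hcard m _ hm).trans Cfsg.Agent.CoThreeStd.MTwelve.card_cent_v

/-- **Involutions of `11 × M₁₂`.** -/
theorem split {C : Type u} [Group C] [Finite C] {x : C} (hx : orderOf x = 11) (hxc : ∀ c : C, c * x = x * c)
    (hC : Nat.card C = 11 * 95040) [hn : (zpowers x).Normal] (hsim : IsSimpleGroup (C ⧸ zpowers x)) {s : C}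
    (hs : s * s = 1) (hs1 : s ≠ 1) :
    Nat.card (centralizer ({s} : Set C)) = 11 * 192 ∨
      (Nat.card (centralizer ({s} : Set C)) = 11 * 240 ∧ ∃ f : Perm (Fin 5) →* C, Function.Injective f ∧
        (∀ σ, f σ * s = s * f σ) ∧ ∀ σ, f σ ≠ s) := by
  have hN : Nat.card (zpowers x) = 11 := by rw [Nat.card_zpowers, hx]
  have hidx : (zpowers x).index = 95040 := by
    have h1 := (zpowers x).card_mul_index
    rw [hN, hC] at h1
    omega
  have hcen : ∀ a ∈ zpowers x, ∀ c : C, a * c = c * a := by
    intro a ha c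
    obtain ⟨j, rfl⟩ := mem_zpowers_iff.1 ha
    exact (Commute.zpow_left (show Commute x c from (hxc c).symm) j).eq
  have hodd : ∀ a ∈ zpowers x, a * a = 1 → a = 1 := by
    intro a ha h2
    have h4 : orderOf a ∣ 11 := by
      have := orderOf_dvd_natCard (⟨a, ha⟩ : zpowers x)
      rwa [hN, ← Subgroup.orderOf_coe] at this
    have h5 : orderOf a ∣ 2 := orderOf_dvd_of_pow_eq_one (by rw [pow_two, h2])
    have h6 := Nat.dvd_gcd h4 h5
    rw [show Nat.gcd 11 2 = 1 by norm_num, Nat.dvd_one, orderOf_eq_one_iff] at h6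
    exact h6
  set π : C →* C ⧸ zpowers x := QuotientGroup.mk' (zpowers x) with hπ
  have hker : ∀ c : C, π c = 1 ↔ c ∈ zpowers x := fun c => QuotientGroup.eq_one_iff c
  have hsb : π s ≠ 1 := fun h => hs1 (hodd s ((hker s).1 h) hs)
  have hsi : s⁻¹ = s := inv_eq_of_mul_eq_one_left hs
  -- commuting with `s`
  have hcomm : ∀ c : C, π c * π s = π s * π c → c * s = s * c := by
    intro c hc
    have h1 : c * s * c⁻¹ * s⁻¹ ∈ zpowers x := by
      rw [← hker, map_mul, map_mul, map_mul, map_inv, map_inv, hc]
      group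
    have h2 : c * s * c⁻¹ * s⁻¹ = 1 := by
      apply hodd _ h1
      set z := c * s * c⁻¹ * s⁻¹ with hz
      have h3 : c * s * c⁻¹ = z * s := by rw [hz]; group
      have h4 : z * s * (z * s) = 1 := by
        rw [← h3]
        calc c * s * c⁻¹ * (c * s * c⁻¹) = c * (s * s) * c⁻¹ := by group
          _ = 1 := by rw [hs]; group
      calc z * z = z * z * (s * s) := by rw [hs, mul_one]
        _ = z * (z * s) * s := by group
        _ = z * (s * z) * s := by rw [hcen z h1 s]
        _ = z * s * (z * s) := by group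
        _ = 1 := h4
    have h3 : c * s * c⁻¹ = s := by
      calc c * s * c⁻¹ = c * s * c⁻¹ * s⁻¹ * s := by group
        _ = s := by rw [h2, one_mul]
    exact mul_inv_eq_iff_eq_mul.1 h3
  have hcent : centralizer ({s} : Set C) = (centralizer ({π s} : Set (C ⧸ zpowers x))).comap π := by
    ext c
    rw [mem_comap, mem_centralizer_singleton_iff, mem_centralizer_singleton_iff]
    exact ⟨fun h => by rw [← map_mul, h, map_mul], hcomm c⟩
  have hcard : Nat.card (centralizer ({s} : Set C)) =
      11 * Nat.card (centralizer ({π s} : Set (C ⧸ zpowers x))) := by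
    have h1 := (centralizer ({s} : Set C)).card_mul_index
    have h2 := (centralizer ({π s} : Set (C ⧸ zpowers x))).card_mul_index
    have h3 : (centralizer ({s} : Set C)).index = (centralizer ({π s} : Set (C ⧸ zpowers x))).index := by
      rw [hcent]
      exact index_comap_of_surjective _ (QuotientGroup.mk'_surjective _)
    have h4 : Nat.card (C ⧸ zpowers x) = 95040 := by rw [← index_eq_card, hidx]
    rw [h4] at h2
    rw [h3, hC, ← h2, ← mul_assoc] at h1
    exact Nat.eq_of_mul_eq_mul_right (Nat.pos_of_ne_zero index_ne_zero_of_finite) h1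
  have hQ : Nat.card (C ⧸ zpowers x) = 95040 := by rw [← index_eq_card, hidx]
  rcases twelve hQ (s := π s) (by rw [← map_mul, hs, map_one]) hsb with h | ⟨h, f, hf, h1, h2⟩
  · left
    rw [hcard, h]
  · right
    refine ⟨by rw [hcard, h], ?_⟩
    -- the preimage
    let U : Subgroup C := f.range.comap π
    have hxU : zpowers x ≤ U := fun a ha => by
      rw [mem_comap, (hker a).2 ha]
      exact one_mem _
    have hR : Nat.card f.range = 120 := by
      rw [Nat.card_congr (MonoidHom.ofInjective hf).symm.toEquiv, Nat.card_perm, Nat.card_fin]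
      rfl
    have hUc : Nat.card U = 11 * 120 := by
      have e1 := U.card_mul_index
      have e2 := f.range.card_mul_index
      have e3 : U.index = f.range.index := index_comap_of_surjective _ (QuotientGroup.mk'_surjective _)
      rw [hR, hQ] at e2
      rw [e3, hC] at e1
      have e4 : f.range.index = 792 := by omega
      rw [e4] at e1
      omega
    have hNU : Nat.card ((zpowers x).subgroupOf U) = 11 := by
      rw [Nat.card_congr (subgroupOfEquivOfLe hxU).toEquiv, hN]
    have hNidx : ((zpowers x).subgroupOf U).index = 120 := by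
      have e1 := ((zpowers x).subgroupOf U).card_mul_index
      rw [hNU, hUc] at e1
      omega
    obtain ⟨K, hK⟩ := exists_right_complement'_of_coprime (N := (zpowers x).subgroupOf U)
      (by rw [hNU, hNidx]; norm_num)
    have hKc : Nat.card K = 120 := by
      have e1 := hK.card_mul_card
      rw [hNU, hUc] at e1
      omega
    let ρ : K →* f.range :=
      { toFun := fun k => ⟨π ((k : U) : C), (k : U).2⟩
        map_one' := Subtype.ext (map_one π)
        map_mul' := fun a b => Subtype.ext (map_mul π _ _) }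
    have hρ : Function.Injective ρ := by
      rw [injective_iff_map_eq_one]
      intro k hk
      have e1 : π ((k : U) : C) = 1 := congrArg Subtype.val hk
      have e2 : (k : U) ∈ (zpowers x).subgroupOf U ⊓ K := ⟨mem_subgroupOf.2 ((hker _).1 e1), k.2⟩
      rw [hK.disjoint.eq_bot, mem_bot] at e2
      exact Subtype.ext e2
    have hρb : Function.Bijective ρ := (Nat.bijective_iff_injective_and_card ρ).2 ⟨hρ, by rw [hKc, hR]⟩
    let E : K ≃* f.range := MulEquiv.ofBijective ρ hρb
    let g : Perm (Fin 5) →* C := (U.subtype.comp K.subtype).comp (E.symm.toMonoidHom.comp (MonoidHom.ofInjective hf).toMonoidHom)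
    have hg : ∀ σ, π (g σ) = f σ := by
      intro σ
      have e1 : E (E.symm (MonoidHom.ofInjective hf σ)) = MonoidHom.ofInjective hf σ := E.apply_symm_apply _
      exact congrArg Subtype.val e1
    refine ⟨g, ?_, fun σ => ?_, fun σ h3 => ?_⟩
    · intro σ τ h3
      apply hf
      rw [← hg, ← hg, h3]
    · apply hcomm
      rw [hg]
      exact h1 σ
    · apply h2 σ
      rw [← hg, h3]

end Cfsg.Agent.H705.TwoB.Split
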