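import Cfsg.Agent.H139.LD.Struct13
import Cfsg.Agent.H712.LD.Values13
import Cfsg.Agent.H531.MB.SieveB

/-!
# The degrees of the Baby Monster modulo 13 (helper705, row 2.B of S2491)

* `res13` : `χ(1) ≡ 0, ± 1, ± 2, ± 3` modulo 13.
-/

set_option autoImplicit false

namespace Cfsg.Agent.H705.TwoB.Thirteen

open Cfsg Subgroup

universe u

/-- **The degrees of the Baby Monster modulo 13.** -/
theorem res13 {L : Type u} [Group L] [Finite L] (h : Spor.IsoB L) (χ : IrrCharacter L) :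
    charDegree (χ : L → ℂ) % 13 ∈ [0, 1, 12, 2, 11, 3, 10] := by
  have hL : Nat.card L = 4154781481226426191177580544000000 := by
    obtain ⟨f⟩ := h
    rw [Nat.card_congr f.toEquiv, Cfsg.Agent.BM.KHAll.card_B]
  have hp : Fact (Nat.Prime 13) := ⟨by norm_num⟩
  obtain ⟨y, hy⟩ := exists_prime_orderOf_dvd_card' (G := L) 13 (by rw [hL]; norm_num)
  obtain ⟨z, -, -, hv⟩ := Cfsg.Agent.H712.LD.values13 h hy (Cfsg.Agent.H139.LD.struct13 h hy)
  have key : ∃ v : ℤ, (v = 0 ∨ v = 1 ∨ v = -1 ∨ v = 2 ∨ v = -2 ∨ v = 3 ∨ v = -3) ∧ (χ : L → ℂ) y = v := by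
    rcases hv χ with h0 | ⟨ε, hε, h1⟩
    · exact ⟨0, Or.inl rfl, by rw [h0]; simp⟩
    · rcases h1 with ⟨h1, -⟩ | ⟨h1, -⟩ | ⟨h1, -⟩
      · exact ⟨ε, by rcases hε with rfl | rfl <;> omega, h1⟩
      · exact ⟨2 * ε, by rcases hε with rfl | rfl <;> omega, h1⟩
      · exact ⟨3 * ε, by rcases hε with rfl | rfl <;> omega, h1⟩
  obtain ⟨v, hv1, hv2⟩ := key
  have hc := Cfsg.Agent.H531.MB.cong hp.out hy χ hv2
  have h2 : charDegree (χ : L → ℂ) % 13 = 0 ∨ charDegree (χ : L → ℂ) % 13 = 1 ∨ charDegree (χ : L → ℂ) % 13 = 12 ∨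
      charDegree (χ : L → ℂ) % 13 = 2 ∨ charDegree (χ : L → ℂ) % 13 = 11 ∨ charDegree (χ : L → ℂ) % 13 = 3 ∨
      charDegree (χ : L → ℂ) % 13 = 10 := by
    push_cast at hc
    rcases hv1 with rfl | rfl | rfl | rfl | rfl | rfl | rfl <;> omega
  rcases h2 with h2 | h2 | h2 | h2 | h2 | h2 | h2 <;> rw [h2] <;> decide

end Cfsg.Agent.H705.TwoB.Thirteen
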